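import Groth.Agent.Pi1.K260.D1Plan
import Groth.Agent.Pi1.K868.BcPBC

/-!
# Proper base change for locally constant functions in terms of local solutions

`glue : K260.D1.Glue`.
-/

set_option autoImplicit false
universe u

open CategoryTheory CategoryTheory.Limits AlgebraicGeometry Opposite IsLocalRing

namespace K677.D1

open EtDesc Groth.Agent.Sga4A.EtStalk Groth.Agent.Etbc.H230.ConstSets Groth.Agent.Etrest.StrictLoc
  Groth.Agent.EtpbcB.StrictLoc Groth.Agent.EtpbcB Groth.Agent.EtpbcB.OshHens K868.Bc K868.Bc.PBC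

/-- Points with values in algebraically closed fields. -/
theorem exists_algPt {A : Scheme.{u}} (a : A) : ∃ (K : Type u) (_ : Field K) (_ : IsAlgClosed K)
    (κ : Spec (CommRingCat.of K) ⟶ A), κ default = a := by
  refine ⟨AlgebraicClosure (A.residueField a), inferInstance, inferInstance,
    ((Scheme.SpecToEquivOfField (AlgebraicClosure (A.residueField a)) _).2
        ⟨a, CommRingCat.ofHom (algebraMap (A.residueField a) _)⟩), ?_⟩
  simp [Scheme.SpecToEquivOfField]

variable {Z N : Scheme.{u}} {h : N ⟶ Z} {E : Type}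

/-- The sheaf on `Z` of locally constant functions on `N`. -/
noncomputable abbrev GE (h : N ⟶ Z) (E : Type) : Sh Z := (pushSh h).obj (C N (ULift.{u} E))

/-- Sections over `V`. -/
abbrev Sec (h : N ⟶ Z) (E : Type) (V : Z.Etale) : Type _ := sect (C N (ULift.{u} E)) ((EtCoh.bc h).obj V)

/-- The symmetry. -/
noncomputable def sw (h : N ⟶ Z) (V : Z.Etale) : pullback h V.hom ⟶ ((EtCoh.bc h).obj V).left :=
  pullback.lift (pullback.snd h V.hom) (pullback.fst h V.hom) pullback.condition.symm

/-- The symmetry. -/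
noncomputable def ws (h : N ⟶ Z) (V : Z.Etale) : ((EtCoh.bc h).obj V).left ⟶ pullback h V.hom :=
  pullback.lift (pullback.snd V.hom h) (pullback.fst V.hom h) pullback.condition.symm

theorem sw_ws (V : Z.Etale) : sw h V ≫ ws h V = 𝟙 _ := by
  apply pullback.hom_ext
  · rw [Category.assoc, ws, pullback.lift_fst, Category.id_comp]
    exact pullback.lift_snd _ _ _
  · rw [Category.assoc, ws, pullback.lift_snd, Category.id_comp]
    exact pullback.lift_fst _ _ _

theorem ws_sw (V : Z.Etale) : ws h V ≫ sw h V = 𝟙 _ := by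
  have h1 : sw h V ≫ bcFst h V = pullback.snd h V.hom := pullback.lift_fst _ _ _
  have h2 : sw h V ≫ ((EtCoh.bc h).obj V).hom = pullback.fst h V.hom := pullback.lift_snd _ _ _
  apply hom_ext_bc
  · rw [Category.assoc, h1, Category.id_comp]
    exact pullback.lift_snd _ _ _
  · rw [Category.assoc, h2, Category.id_comp]
    exact pullback.lift_fst _ _ _

theorem ws_sw_apply (V : Z.Etale) (x : ((EtCoh.bc h).obj V).left) : sw h V (ws h V x) = x := by
  rw [← Scheme.Hom.comp_apply, ws_sw]
  rfl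

theorem sw_ws_apply (V : Z.Etale) (x : ↥(pullback h V.hom)) : ws h V (sw h V x) = x := by
  rw [← Scheme.Hom.comp_apply, sw_ws]
  rfl

/-- The function on `pullback h V.hom` attached to a section. -/
noncomputable def fn {V : Z.Etale} (s : Sec h E V) (x : ↥(pullback h V.hom)) : E :=
  (sectLC s (sw h V x)).down

theorem isLocallyConstant_fn {V : Z.Etale} (s : Sec h E V) : IsLocallyConstant (fn s) :=
  ((sectLC s).isLocallyConstant.comp ULift.down).comp_continuous (sw h V).continuous

theorem fn_ws {V : Z.Etale} (s : Sec h E V) (x : ((EtCoh.bc h).obj V).left) :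
    fn s (ws h V x) = (sectLC s x).down := by
  rw [fn, ws_sw_apply]

theorem exists_fn {V : Z.Etale} (f : ↥(pullback h V.hom) → E) (hf : IsLocallyConstant f) :
    ∃ s : Sec h E V, fn s = f := by
  obtain ⟨s, hs⟩ := (sectLC_bijective ((EtCoh.bc h).obj V)).2
    ⟨fun x => ULift.up.{u} (f (ws h V x)), (hf.comp_continuous (ws h V).continuous).comp ULift.up⟩
  refine ⟨s, ?_⟩
  ext x
  rw [fn, hs]
  show f (ws h V (sw h V x)) = f x
  rw [sw_ws_apply]

/-- Restrictions of sections. -/
theorem res_apply {V W : Z.Etale} (a : W ⟶ V) (s : Sec h E V) (x : ((EtCoh.bc h).obj W).left) :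
    sectLC ((GE h E).obj.map a.op s : Sec h E W) x = sectLC s (((EtCoh.bc h).map a).left x) :=
  sectLC_res ((EtCoh.bc h).map a) s x

theorem eq_of_map_eq {V V' W : Z.Etale} (a : W ⟶ V) (b : W ⟶ V') (s : Sec h E V) (t : Sec h E V')
    (H : (GE h E).obj.map a.op s = (GE h E).obj.map b.op t) (x : ((EtCoh.bc h).obj W).left) :
    sectLC s (((EtCoh.bc h).map a).left x) = sectLC t (((EtCoh.bc h).map b).left x) := by
  rw [← res_apply, ← res_apply, H]

theorem map_eq {V V' W : Z.Etale} (a : W ⟶ V) (b : W ⟶ V') (s : Sec h E V) (t : Sec h E V')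
    (H : ∀ x : ((EtCoh.bc h).obj W).left,
      sectLC s (((EtCoh.bc h).map a).left x) = sectLC t (((EtCoh.bc h).map b).left x)) :
    (GE h E).obj.map a.op s = (GE h E).obj.map b.op t := by
  have h1 : Function.Injective (sectLC : Sec h E W → _) := (sectLC_bijective _).1
  apply h1
  ext x
  rw [res_apply, res_apply]
  exact congrArg ULift.down (H x)

theorem map_eq_of_points {V V' W : Z.Etale} (a : W ⟶ V) (b : W ⟶ V') (s : Sec h E V) (t : Sec h E V')
    (H : ∀ (K : Type u) [Field K] [IsAlgClosed K] (n : Spec (CommRingCat.of K) ⟶ N)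
      (l : Spec (CommRingCat.of K) ⟶ W.left)
      (e : n ≫ h = (l ≫ a.left) ≫ V.hom) (e' : n ≫ h = (l ≫ b.left) ≫ V'.hom),
      fn s (pullback.lift n (l ≫ a.left) e default) = fn t (pullback.lift n (l ≫ b.left) e' default)) :
    (GE h E).obj.map a.op s = (GE h E).obj.map b.op t := by
  apply map_eq
  intro x
  obtain ⟨K, _, _, κ, rfl⟩ := exists_algPt x
  have key : ∀ {V : Z.Etale} (a : W ⟶ V) (s : Sec h E V)
      (e : (κ ≫ ((EtCoh.bc h).obj W).hom) ≫ h = ((κ ≫ bcFst h W) ≫ a.left) ≫ V.hom),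
      fn s (pullback.lift (κ ≫ ((EtCoh.bc h).obj W).hom) ((κ ≫ bcFst h W) ≫ a.left) e default) =
        (sectLC s (((EtCoh.bc h).map a).left (κ default))).down := by
    intro V a s e
    rw [fn, ← Scheme.Hom.comp_apply, ← Scheme.Hom.comp_apply]
    congr 2
    have h1 : pullback.lift (κ ≫ ((EtCoh.bc h).obj W).hom) ((κ ≫ bcFst h W) ≫ a.left) e ≫ sw h V =
        κ ≫ ((EtCoh.bc h).map a).left := by
      apply hom_ext_bc
      · have h2 : sw h V ≫ bcFst h V = pullback.snd h V.hom := pullback.lift_fst _ _ _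
        rw [Category.assoc, h2, pullback.lift_snd, Category.assoc, Category.assoc, bc_map_fst]
      · have h2 : sw h V ≫ ((EtCoh.bc h).obj V).hom = pullback.fst h V.hom := pullback.lift_snd _ _ _
        rw [Category.assoc, h2, pullback.lift_fst, Category.assoc, bc_map_hom]
    rw [h1]
  have hc : ∀ {V : Z.Etale} (a : W ⟶ V),
      (κ ≫ ((EtCoh.bc h).obj W).hom) ≫ h = ((κ ≫ bcFst h W) ≫ a.left) ≫ V.hom := by
    intro V a
    have hw : a.left ≫ V.hom = W.hom := Over.w a.hom
    rw [Category.assoc, Category.assoc, Category.assoc, hw, bc_condition]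
  have h3 := H K (κ ≫ ((EtCoh.bc h).obj W).hom) (κ ≫ bcFst h W) (hc a) (hc b)
  rw [key a s, key b t] at h3
  exact ULift.down_injective h3

section Global

variable {R : Type u} [CommRing R] [IsLocalRing R] (p : Z ⟶ Spec (CommRingCat.of R))

/-- Hypotheses at the geometric points of the closed fibre. -/
structure Hyp (h : N ⟶ Z) (p : Z ⟶ Spec (CommRingCat.of R)) (P : ∀ ⦃V : Z.Etale⦄, Sec h E V → Prop) : Prop where
  ex : ∀ {Ω : Type u} [Field Ω] [IsSepClosed Ω] (ρ : Spec (CommRingCat.of Ω) ⟶ Z),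
    p (ρ default) = closedPoint R →
    ∃ (V : Z.Etale) (l : Spec (CommRingCat.of Ω) ⟶ V.left) (_ : l ≫ V.hom = ρ) (s : Sec h E V), P s
  uniq : ∀ {Ω : Type u} [Field Ω] [IsSepClosed Ω] (ρ : Spec (CommRingCat.of Ω) ⟶ Z),
    p (ρ default) = closedPoint R →
    ∀ {V V' : Z.Etale} (l : Spec (CommRingCat.of Ω) ⟶ V.left) (hl : l ≫ V.hom = ρ)
      (l' : Spec (CommRingCat.of Ω) ⟶ V'.left) (hl' : l' ≫ V'.hom = ρ)
      (s : Sec h E V) (t : Sec h E V'), P s → P t → germ (GE h E) l hl s = germ (GE h E) l' hl' t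

variable {p} {P : ∀ ⦃V : Z.Etale⦄, Sec h E V → Prop}

/-- The germ. -/
noncomputable def Hyp.gm (H : Hyp h p P) {Ω : Type u} [Field Ω] [IsSepClosed Ω]
    (ρ : Spec (CommRingCat.of Ω) ⟶ Z) (hρ : p (ρ default) = closedPoint R) : Stk (GE h E) ρ :=
  germ (GE h E) (H.ex ρ hρ).choose_spec.choose (H.ex ρ hρ).choose_spec.choose_spec.choose
    (H.ex ρ hρ).choose_spec.choose_spec.choose_spec.choose

theorem Hyp.gm_eq (H : Hyp h p P) {Ω : Type u} [Field Ω] [IsSepClosed Ω]
    (ρ : Spec (CommRingCat.of Ω) ⟶ Z) (hρ : p (ρ default) = closedPoint R) {V : Z.Etale}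
    (l : Spec (CommRingCat.of Ω) ⟶ V.left) (hl : l ≫ V.hom = ρ) (s : Sec h E V) (hs : P s) :
    H.gm ρ hρ = germ (GE h E) l hl s :=
  H.uniq ρ hρ _ _ l hl _ s (H.ex ρ hρ).choose_spec.choose_spec.choose_spec.choose_spec hs

/-- The family of germs on the closed fibre. -/
noncomputable def Hyp.fam [HenselianLocalRing R] [IsSepClosed (ResidueField R)] (H : Hyp h p P) : Fam (GE h E) (pullback.fst p (resPt R)) where
  val η ρ e := H.gm ρ (by rw [← e, Scheme.Hom.comp_apply]; exact closed_of_fibre _)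
  rep y := by
    obtain ⟨Ω, _, _, η₀, rfl⟩ := exists_geomPoint _ y
    obtain ⟨V, l, hl, s, hs⟩ := H.ex (η₀ ≫ pullback.fst p (resPt R)) (by
      rw [Scheme.Hom.comp_apply]; exact closed_of_fibre _)
    have hV : Etale V.hom := inferInstance
    refine ⟨pullback (pullback.fst p (resPt R)) V.hom, pullback.fst _ _, inferInstance,
      (pullback.lift η₀ l hl.symm : Spec (CommRingCat.of Ω) ⟶ _) default, ?_, V, pullback.snd _ _,
      pullback.condition.symm, s, ?_⟩
    · rw [← Scheme.Hom.comp_apply, pullback.lift_fst]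
    · intro Ω' _ _ ζ ρ e e'
      exact H.gm_eq ρ _ (ζ ≫ pullback.snd _ _) e' s hs

theorem exists_global [HenselianLocalRing R] [IsSepClosed (ResidueField R)] [IsProper p] (H : Hyp h p P) : ∃ s : N → E, IsLocallyConstant s ∧
    ∀ z : Z, p z = closedPoint R → ∃ (V V₁ : Z.Etale) (g : V ⟶ V₁) (v : V.left) (r : Sec h E V₁), V.hom v = z ∧ P r ∧
      ∀ x : ((EtCoh.bc h).obj V).left,
        (sectLC r (((EtCoh.bc h).map g).left x)).down = s (((EtCoh.bc h).obj V).hom x) := by
  obtain ⟨U, l, hl, b, hb⟩ := Groth.Agent.S3051.bcsurj_of_isProper p (GE h E) (ResidueField R)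
    (resPt R) H.fam
  -- the section of `U`
  obtain ⟨t, ht, ht'⟩ := Groth.Agent.Pi1C.StrictHensPoint.exists_lift_of_etale U.hom (l default) R
    (𝟙 _) (by
      rw [← Scheme.Hom.comp_apply, hl]
      exact (resPt_closedPoint R _).symm)
  have hlt : resPt R ≫ t = l := by
    have h1 : Etale (t ≫ U.hom) := by rw [ht]; infer_instance
    have h2 : Etale t := Etale.of_comp t U.hom
    have h3 : Mono t := by
      have : Mono (t ≫ U.hom) := by rw [ht]; infer_instance
      exact mono_of_mono t U.hom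
    have h4 : IsOpenImmersion t := IsOpenImmersion.of_flat_of_mono t
    have hrange : Set.range l ⊆ Set.range t := by
      rintro _ ⟨z, rfl⟩
      refine ⟨closedPoint R, ?_⟩
      rw [ht']
      congr 1
      exact Subsingleton.elim _ _
    have h5 : IsOpenImmersion.lift t l hrange = resPt R := by
      have h6 := IsOpenImmersion.lift_fac t l hrange
      rw [← hl]
      conv_rhs => rw [← h6, Category.assoc, ht]
      exact (Category.comp_id _).symm
    rw [← h5]
    exact IsOpenImmersion.lift_fac t l hrange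
  let a : EtCoh.top (Spec (CommRingCat.of R)) ⟶ U := MorphismProperty.Over.homMk t ht trivial
  let T₀ : Z.Etale := (EtCoh.bc p).obj (EtCoh.top (Spec (CommRingCat.of R)))
  let b₀ : Sec h E T₀ := (GE h E).obj.map ((EtCoh.bc p).map a).op b
  have hT₀ : IsIso T₀.hom := by
    show IsIso (pullback.snd (𝟙 (Spec (CommRingCat.of R))) p)
    infer_instance
  -- germs of `b₀` at the geometric points over the closed point
  have hgerm : ∀ {Ω : Type u} [Field Ω] [IsSepClosed Ω] (η : Spec (CommRingCat.of Ω) ⟶ T₀.left)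
      (ρ : Spec (CommRingCat.of Ω) ⟶ Z) (e : η ≫ T₀.hom = ρ) (hρ : p (ρ default) = closedPoint R),
      germ (GE h E) η e b₀ = H.gm ρ hρ := by
    intro Ω _ _ η ρ e hρ
    obtain ⟨ζ, hζ⟩ := exists_factor ρ hρ
    have h1 : (ζ ≫ pullback.snd p (resPt R) ≫ l) ≫ U.hom = ρ ≫ p := by
      rw [Category.assoc, Category.assoc, hl, ← pullback.condition, ← Category.assoc, hζ]
    have h2 := hb ζ ρ hζ h1
    have h3 : η ≫ ((EtCoh.bc p).map a).left = bcPt p ρ (ζ ≫ pullback.snd p (resPt R) ≫ l) h1 := by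
      apply hom_ext_bc
      · rw [Category.assoc, bc_map_fst, bcPt_fst]
        have h4 : η ≫ bcFst p (EtCoh.top (Spec (CommRingCat.of R))) = ρ ≫ p := by
          have h5 := bc_condition p (EtCoh.top (Spec (CommRingCat.of R)))
          have h6 : bcFst p (EtCoh.top (Spec (CommRingCat.of R))) = T₀.hom ≫ p := by
            rw [← Category.comp_id (bcFst p _)]
            exact h5
          rw [h6, ← e]
          exact (Category.assoc _ _ _).symm
        have h7 : a.left = t := rfl
        have h8 : ρ ≫ p = ζ ≫ pullback.snd p (resPt R) ≫ resPt R := by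
          rw [← hζ, Category.assoc, pullback.condition]
        rw [← Category.assoc, h4, h7, h8, ← hlt]
        have h9 : (ζ ≫ pullback.snd p (resPt R) ≫ resPt R) ≫ t = ζ ≫ pullback.snd p (resPt R) ≫ resPt R ≫ t := by
          simp only [Category.assoc]
        exact h9
      · rw [Category.assoc, bc_map_hom, bcPt_hom]
        exact e
    have h4 := germ_res' (GE h E) ((EtCoh.bc p).map a) η e _ (bcPt_hom _ _ _ _) h3 b
    rw [show b₀ = (GE h E).obj.map ((EtCoh.bc p).map a).op b from rfl, h4, ← h2]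
    rfl
  have hiso : IsIso ((EtCoh.bc h).obj T₀).hom := by
    show IsIso (pullback.snd T₀.hom h)
    infer_instance
  refine ⟨fun x => (sectLC b₀ (inv ((EtCoh.bc h).obj T₀).hom x)).down,
    ((sectLC b₀).isLocallyConstant.comp ULift.down).comp_continuous
      (inv ((EtCoh.bc h).obj T₀).hom).continuous, ?_⟩
  intro z hz
  obtain ⟨z, rfl⟩ := T₀.hom.surjective z
  obtain ⟨Ω, _, _, η, rfl⟩ := exists_geomPoint _ z
  have hρ : p ((η ≫ T₀.hom) default) = closedPoint R := by
    rw [Scheme.Hom.comp_apply]; exact hz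
  obtain ⟨V, l', hl', s, hs⟩ := H.ex (η ≫ T₀.hom) hρ
  have h1 := (hgerm η _ rfl hρ).trans (H.gm_eq _ hρ l' hl' s hs)
  obtain ⟨V', a', b', n, hn, ha, hb', hab⟩ := (germ_eq_germ_iff (GE h E) _ _ _ _ _ _).1 h1
  refine ⟨V', V, b', n default, s, ?_, hs, ?_⟩
  · rw [← Scheme.Hom.comp_apply, hn]
    rfl
  · intro x
    rw [← eq_of_map_eq a' b' b₀ s hab x]
    congr 2
    have h2 : ((EtCoh.bc h).map a').left = ((EtCoh.bc h).obj V').hom ≫ inv ((EtCoh.bc h).obj T₀).hom := by
      rw [IsIso.eq_comp_inv]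
      exact bc_map_hom h a'
    rw [h2]
    rfl

end Global

/-- **Node GLUE**. -/
theorem glue : K260.D1.Glue.{u} := by
  intro R _ _ hR hsep Z N p hp h hqc hqs E _ Pr hex huniq
  have H : Hyp (E := E) h p (fun V s => Pr V.hom (fn s)) := by
    constructor
    · intro Ω _ _ ρ hρ
      obtain ⟨V, a, ha, v, hv, s, hs, hPs⟩ := hex (ρ default) hρ
      let V' : Z.Etale := MorphismProperty.Over.mk _ a ha
      obtain ⟨l, hl, -⟩ := exists_geom_lift ρ V' v hv
      obtain ⟨s', hs'⟩ := exists_fn (h := h) (V := V') s hs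
      exact ⟨V', l, hl, s', by rw [hs']; exact hPs⟩
    · intro Ω _ _ ρ hρ V V' l hl l' hl' s t hs ht
      obtain ⟨M, m, m', hm, hM, y', hy', H⟩ := huniq V.hom V'.hom inferInstance inferInstance (fn s) (fn t)
        (isLocallyConstant_fn s) (isLocallyConstant_fn t) hs ht
        ((pullback.lift l l' (hl.trans hl'.symm) : Spec (CommRingCat.of Ω) ⟶ _) default) (by
          rw [← Scheme.Hom.comp_apply (pullback.lift _ _ _), pullback.lift_fst, ← Scheme.Hom.comp_apply l, hl]
          exact hρ)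
      have hV : Etale V.hom := inferInstance
      have hV' : Etale V'.hom := inferInstance
      have hme : Etale m := by
        have h1 : pullback.lift m m' hm ≫ pullback.fst V.hom V'.hom = m := pullback.lift_fst _ _ _
        rw [← h1]
        infer_instance
      let W : Z.Etale := MorphismProperty.Over.mk _ (m ≫ V.hom) (by
        show Etale (m ≫ V.hom)
        infer_instance)
      let a : W ⟶ V := MorphismProperty.Over.homMk m rfl trivial
      let b : W ⟶ V' := MorphismProperty.Over.homMk m' hm.symm trivial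
      let M' : (pullback V.hom V'.hom).Etale := MorphismProperty.Over.mk _ (pullback.lift m m' hm) hM
      obtain ⟨n, hn, -⟩ := exists_geom_lift (pullback.lift l l' (hl.trans hl'.symm)) M' y' hy'
      have hn' : n ≫ pullback.lift m m' hm = pullback.lift l l' (hl.trans hl'.symm) := hn
      have h1 : n ≫ m = l := by
        have h2 := congrArg (· ≫ pullback.fst V.hom V'.hom) hn'
        simpa only [Category.assoc, pullback.lift_fst] using h2
      have h1' : n ≫ m' = l' := by
        have h2 := congrArg (· ≫ pullback.snd V.hom V'.hom) hn'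
        simpa only [Category.assoc, pullback.lift_snd] using h2
      refine (germ_eq_germ_iff (GE h E) l hl l' hl' s t).2 ⟨W, a, b, n, ?_, h1, h1', ?_⟩
      · show n ≫ m ≫ V.hom = ρ
        rw [← Category.assoc, h1, hl]
      · exact map_eq_of_points a b s t (fun K _ _ n l e e' => H K n l e e')
  obtain ⟨s, hs, hs'⟩ := exists_global H
  refine ⟨s, hs, ?_⟩
  -- the good locus
  let Z₀ : Set Z := {z | ∃ (V : Scheme.{u}) (a : V ⟶ Z) (_ : Etale a) (v : V) (_ : a v = z)
    (r : ↥(pullback h a) → E), IsLocallyConstant r ∧ Pr a r ∧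
    ∃ O : V.Opens, v ∈ O ∧ ∀ w : ↥(pullback h a), pullback.snd h a w ∈ O → s (pullback.fst h a w) = r w}
  have hZ₀ : IsOpen Z₀ := by
    rw [isOpen_iff_forall_mem_open]
    rintro x ⟨V, a, ha, v, hv, r, hr, hPr, O, hvO, hO⟩
    refine ⟨a '' O, ?_, ?_, ⟨v, hvO, hv⟩⟩
    · rintro _ ⟨w, hw, rfl⟩
      exact ⟨V, a, ha, w, rfl, r, hr, hPr, O, hw, hO⟩
    · exact (AlgebraicGeometry.Scheme.Hom.isOpenMap a) _ O.2
  have hcl : ∀ z : Z, p z = closedPoint R → z ∈ Z₀ := by
    intro z hz
    obtain ⟨V, V₁, g, v, r, hv, hr, hgr⟩ := hs' z hz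
    have hw : g.left ≫ V₁.hom = V.hom := Over.w g.hom
    have hg : Etale g.left := inferInstance
    refine ⟨V₁.left, V₁.hom, inferInstance, g.left v, ?_, fn r, isLocallyConstant_fn r, hr,
      ⟨Set.range g.left.base, (AlgebraicGeometry.Scheme.Hom.isOpenMap g.left).isOpen_range⟩, ⟨v, rfl⟩, ?_⟩
    · rw [← Scheme.Hom.comp_apply, hw, hv]
    · rintro w ⟨v', hv'⟩
      have hsq : IsPullback ((EtCoh.bc h).map g).left (bcFst h V) (bcFst h V₁) g.left :=
        EtCoh.isPullback_bc_map h g
      have hsw : bcFst h V₁ (sw h V₁ w) = g.left v' := by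
        rw [← Scheme.Hom.comp_apply]
        have h2 : sw h V₁ ≫ bcFst h V₁ = pullback.snd h V₁.hom := pullback.lift_fst _ _ _
        rw [h2]
        exact hv'.symm
      obtain ⟨y, hy1, hy2⟩ := Scheme.exists_preimage_of_isPullback hsq (sw h V₁ w) v' hsw
      have h3 := hgr y
      rw [hy1] at h3
      have h4 : ((EtCoh.bc h).obj V).hom y = pullback.fst h V₁.hom w := by
        rw [← bc_map_hom h g, Scheme.Hom.comp_apply, hy1, ← Scheme.Hom.comp_apply]
        have h2 : sw h V₁ ≫ ((EtCoh.bc h).obj V₁).hom = pullback.fst h V₁.hom := pullback.lift_snd _ _ _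
        rw [h2]
      rw [h4] at h3
      exact h3.symm
  have huniv : Z₀ = Set.univ := by
    by_contra hne
    have h1 : IsClosed (p '' Z₀ᶜ) := (Scheme.Hom.isClosedMap p) _ hZ₀.isClosed_compl
    obtain ⟨z, hz⟩ : (Z₀ᶜ).Nonempty := Set.nonempty_compl.2 hne
    have h2 : closedPoint R ∈ p '' Z₀ᶜ := by
      have h3 : p z ⤳ closedPoint R := IsLocalRing.specializes_closedPoint _
      exact h3.mem_closed h1 ⟨z, hz, rfl⟩
    obtain ⟨z', hz', e⟩ := h2
    exact hz' (hcl z' e)
  intro z
  have hz : z ∈ Z₀ := by rw [huniv]; trivial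
  exact hz

end K677.D1
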